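import Mathlib

set_option autoImplicit false
universe u

open Polynomial

namespace Groth.Agent.UnipPowLib

variable {R : Type u} [CommRing R] [Algebra ℚ R]

theorem pow_eq_sum (r : R) (δ : ℕ) (hr : (r - 1) ^ (δ + 1) = 0) (n : ℕ) :
    r ^ n = ∑ k ∈ Finset.range (δ + 1), ((descPochhammer ℚ k).eval (n : ℚ) / (k.factorial : ℚ)) • (r - 1) ^ k := by
  have hc : ∀ k, (descPochhammer ℚ k).eval (n : ℚ) / (k.factorial : ℚ) = (n.choose k : ℚ) := fun k =>
    (Nat.cast_choose_eq_descPochhammer_div ℚ n k).symm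
  simp only [hc, Nat.cast_smul_eq_nsmul, nsmul_eq_mul]
  conv_lhs => rw [show r = (r - 1) + 1 by ring, add_pow]
  simp only [one_pow, mul_one]
  have hzero : ∀ k, δ + 1 ≤ k → (r - 1) ^ k = 0 := fun k hk => pow_eq_zero_of_le hk hr
  rw [← Finset.sum_subset (s₁ := Finset.range (min n δ + 1)) (by intro x; simp; omega) (fun k hk hk' => ?_)]
  · rw [← Finset.sum_subset (s₁ := Finset.range (min n δ + 1)) (s₂ := Finset.range (δ + 1)) (by intro x; simp) (fun k hk hk' => ?_)]
    · exact Finset.sum_congr rfl fun k _ => by ring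
    · simp only [Finset.mem_range] at hk hk'
      rw [Nat.choose_eq_zero_of_lt (by omega), Nat.cast_zero, zero_mul]
  · simp only [Finset.mem_range] at hk hk'
    rw [hzero k (by omega), zero_mul]

theorem sum_expand (r : R) (δ : ℕ) :
    ∑ k ∈ Finset.range (δ + 1), ((k.factorial : ℚ)⁻¹ • (descPochhammer R k * C ((r - 1) ^ k))) =
      ∑ j ∈ Finset.range (δ + 1), C (∑ k ∈ Finset.range (δ + 1), ∑ u ∈ Finset.range (k + 1),
        (((-1 : ℚ) ^ (k - u) * (((descPochhammer ℤ k).coeff j : ℤ) : ℚ)) / ((u.factorial * (k - u).factorial : ℕ) : ℚ)) • r ^ u) * X ^ j := by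
  ext j
  simp only [finset_sum_coeff, coeff_smul, coeff_mul_C, coeff_C_mul_X_pow, Finset.sum_ite_eq, Finset.mem_range]
  have hmap : ∀ k, (descPochhammer R k).coeff j = (((descPochhammer ℤ k).coeff j : ℤ) : R) := by
    intro k
    rw [← descPochhammer_map (Int.castRingHom R) k, coeff_map]
    rfl
  split_ifs with hj
  · refine Finset.sum_congr rfl fun k _ => ?_
    rw [hmap, show r - 1 = r + (-1) by ring, add_pow, Finset.mul_sum, Finset.smul_sum]
    refine Finset.sum_congr rfl fun u hu => ?_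
    rw [Finset.mem_range] at hu
    rw [Algebra.smul_def, Algebra.smul_def]
    have hcoef : ((k.factorial : ℚ)⁻¹ * ((descPochhammer ℤ k).coeff j : ℚ) * (-1) ^ (k - u) * (k.choose u : ℚ)) =
        ((-1 : ℚ) ^ (k - u) * (((descPochhammer ℤ k).coeff j : ℤ) : ℚ)) / ((u.factorial * (k - u).factorial : ℕ) : ℚ) := by
      rw [Nat.cast_choose ℚ (show u ≤ k by omega), Nat.cast_mul]
      have : (k.factorial : ℚ) ≠ 0 := by exact_mod_cast k.factorial_ne_zero
      field_simp
    rw [← hcoef]
    simp only [map_mul, map_pow, map_neg, map_one, map_intCast, map_natCast]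
    ring
  · refine Finset.sum_eq_zero fun k hk => ?_
    rw [Finset.mem_range] at hk
    rw [hmap, coeff_eq_zero_of_natDegree_lt (by rw [descPochhammer_natDegree]; omega)]
    simp

end Groth.Agent.UnipPowLib
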